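import Mathlib
import Cfsg.Agent.H613.KKL.Defs
import Cfsg.Agent.Lib.Cores
import Cfsg.Agent.R01.Lifts
import Cfsg.Agent.Co2Type.Quad

/-!
# S4546, sporadic rows: elements whose centralizer has a large normal 2-subgroup (helper695)

* `Bad P u` : `C(u)` has a normal 2-subgroup of order greater than 8 or containing an element with the property `P`.
* `noCfg_of_bad` : all involutions are bad or have the property `P`, and `P` contains no pure four-group: `NoCfg`.
* `fix_card` : an involution centralizing `z` fixes at least `2 ^ n` elements of an extraspecial group of order `2 ^ (2 n + 1)`.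
* `bad_of_lift` : the image in `X` of an involution `v` of a double cover `B ≤ Γ` with `C_Γ(v)` having a large
  normal 2-subgroup.
-/

set_option autoImplicit false

open Subgroup Cfsg Cfsg.Agent.H613.KKL

namespace Cfsg.Agent.H695.KKL

section gen

variable {S : Type*} [Group S]

/-- `C(u)` has a normal 2-subgroup which has more than 8 elements or contains an element with the property `P` -/
def Bad (P : S → Prop) (u : S) : Prop :=
  ∃ N : Subgroup S, IsPGroup 2 N ∧ N ≤ centralizer {u} ∧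
    (∀ c ∈ centralizer ({u} : Set S), ∀ n ∈ N, c * n * c⁻¹ ∈ N) ∧ (8 < Nat.card N ∨ ∃ n ∈ N, P n)

theorem centralizer_zpowers' (z : S) : centralizer ((zpowers z : Subgroup S) : Set S) = centralizer {z} := by
  rw [zpowers_eq_closure, centralizer_closure]

theorem le_of_normal {D : Subgroup S} {x : S} (h : Cfg0 D x) {z : S} (hz : z ∈ D) {N : Subgroup S}
    (hN2 : IsPGroup 2 N) (hNz : N ≤ centralizer {z})
    (hNn : ∀ c ∈ centralizer ({z} : Set S), ∀ n ∈ N, c * n * c⁻¹ ∈ N) : N ≤ D := by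
  refine h.rad (zpowers z) (zpowers_le.2 hz) N hN2 ?_ ?_
  · rwa [centralizer_zpowers']
  · rwa [centralizer_zpowers']

theorem Bad.of_conj {P : S → Prop} (hP : ∀ g s, P s → P (g * s * g⁻¹)) {u : S} (h : Bad P u) (g : S) :
    Bad P (g * u * g⁻¹) := by
  obtain ⟨N, h1, h2, h3, h4⟩ := h
  have hcm : ∀ c : S, c ∈ centralizer ({g * u * g⁻¹} : Set S) → g⁻¹ * c * g ∈ centralizer ({u} : Set S) := by
    intro c hc
    rw [mem_centralizer_singleton_iff] at hc ⊢
    calc g⁻¹ * c * g * u = g⁻¹ * (c * (g * u * g⁻¹)) * g := by group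
      _ = g⁻¹ * (g * u * g⁻¹ * c) * g := by rw [hc]
      _ = u * (g⁻¹ * c * g) := by group
  refine ⟨N.map (MulAut.conj g).toMonoidHom, h1.map _, ?_, ?_, ?_⟩
  · rintro _ ⟨n, hn, rfl⟩
    have := mem_centralizer_singleton_iff.1 (h2 hn)
    rw [mem_centralizer_singleton_iff]
    show g * n * g⁻¹ * (g * u * g⁻¹) = g * u * g⁻¹ * (g * n * g⁻¹)
    calc g * n * g⁻¹ * (g * u * g⁻¹) = g * (n * u) * g⁻¹ := by group
      _ = g * (u * n) * g⁻¹ := by rw [this]
      _ = _ := by group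
  · rintro c hc _ ⟨n, hn, rfl⟩
    refine ⟨g⁻¹ * c * g * n * (g⁻¹ * c * g)⁻¹, h3 _ (hcm c hc) n hn, ?_⟩
    show g * (g⁻¹ * c * g * n * (g⁻¹ * c * g)⁻¹) * g⁻¹ = c * (g * n * g⁻¹) * c⁻¹
    group
  · rcases h4 with h4 | ⟨n, hn, hPn⟩
    · left
      rwa [Nat.card_congr (N.equivMapOfInjective _ (MulAut.conj g).injective).toEquiv.symm]
    · right
      exact ⟨g * n * g⁻¹, ⟨n, hn, rfl⟩, hP g n hPn⟩

/-- **The criterion.** -/
theorem noCfg_of_bad (P : S → Prop) (hP1 : ¬ P 1) (hP : ∀ g s, P s → P (g * s * g⁻¹))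
    (hpure : ∀ a b, P a → P b → a * b = b * a → a ≠ b → ¬ P (a * b))
    (hcls : ∀ u : S, u * u = 1 → u ≠ 1 → P u ∨ Bad P u) : NoCfg S := by
  intro D x h
  have hcomm : ∀ a ∈ D, ∀ b ∈ D, a * b = b * a := by
    intro a ha b hb
    have h1 := h.e8.inv a ha
    have h2 := h.e8.inv b hb
    have h3 := h.e8.inv (a * b) (D.mul_mem ha hb)
    have e1 : a⁻¹ = a := inv_eq_of_mul_eq_one_left h1
    have e2 : b⁻¹ = b := inv_eq_of_mul_eq_one_left h2
    have e3 : (a * b)⁻¹ = a * b := inv_eq_of_mul_eq_one_left h3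
    rw [← e3, mul_inv_rev, e1, e2]
  obtain ⟨y, hy⟩ := h.seven
  have hfin : Finite D := Nat.finite_of_card_ne_zero (by rw [h.e8.card]; norm_num)
  -- no element of `D` has the property
  have hno : ∀ d ∈ D, ¬ P d := by
    intro d hd hPd
    have hd1 : d ≠ 1 := by rintro rfl; exact hP1 hPd
    have hall : ∀ b ∈ D, b ≠ 1 → P b := by
      intro b hb hb1
      obtain ⟨k, hk⟩ := hy.trans d hd hd1 b hb hb1
      rw [← hk]
      exact hP _ _ hPd
    -- another element
    obtain ⟨b, hbD, hb⟩ : ∃ b ∈ D, b ∉ ({1, d} : Set S) := by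
      by_contra hcon
      push Not at hcon
      have h1 : (D : Set S) ⊆ {1, d} := hcon
      have h2 := Set.ncard_le_ncard h1 (Set.toFinite _)
      have h3 : ({1, d} : Set S).ncard ≤ 2 := Set.ncard_insert_le _ _ |>.trans (by rw [Set.ncard_singleton])
      have h4 : (D : Set S).ncard = 8 := h.e8.card
      omega
    simp only [Set.mem_insert_iff, Set.mem_singleton_iff, not_or] at hb
    have hdb : d * b ≠ 1 := by
      intro h1
      apply hb.2
      have h2 := h.e8.inv d hd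
      exact mul_left_cancel (h1.trans h2.symm)
    exact hpure d b hPd (hall b hbD hb.1) (hcomm d hd b hbD) (fun e => hb.2 e.symm)
      (hall _ (D.mul_mem hd hbD) hdb)
  obtain ⟨d, hdD, hd1⟩ : ∃ d ∈ D, d ≠ 1 := by
    by_contra hcon
    push Not at hcon
    have h1 : D = ⊥ := (eq_bot_iff_forall D).2 hcon
    have h2 := h.e8.card
    rw [h1, card_bot] at h2
    norm_num at h2
  rcases hcls d (h.e8.inv d hdD) hd1 with h1 | ⟨N, h1, h2, h3, h4⟩
  · exact hno d hdD h1
  · have hND := le_of_normal h hdD h1 h2 h3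
    rcases h4 with h4 | ⟨n, hn, hPn⟩
    · have h5 := card_le_of_le hND
      rw [h.e8.card] at h5
      omega
    · exact hno n (hND hn) hPn

theorem e8_map {S S' : Type*} [Group S] [Group S'] (e : S ≃* S') {D : Subgroup S} (h : E8 D) :
    E8 (D.map e.toMonoidHom) := by
  refine ⟨?_, ?_⟩
  · rw [← h.card]
    exact (Nat.card_congr (D.equivMapOfInjective e.toMonoidHom e.injective).toEquiv).symm
  · rintro _ ⟨d, hd, rfl⟩
    rw [← map_mul, h.inv d hd, map_one]

/-- transport -/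
theorem noCfg_congr {S S' : Type*} [Group S] [Group S'] (e : S ≃* S') (h : NoCfg S') : NoCfg S := by
  intro D x hc
  refine h (D.map e.toMonoidHom) (e x) ⟨e8_map e hc.e8, ?_, ?_, ?_, ?_, ?_⟩
  · rw [MulEquiv.orderOf_eq]
    exact hc.odd
  · rintro _ ⟨d, hd, rfl⟩
    show e d * e x = e x * e d
    rw [← map_mul, hc.comm d hd, map_mul]
  · intro Q hQ hQx
    have hmem : ∀ s, s ∈ Q.comap e.toMonoidHom ↔ e s ∈ Q := fun s => Iff.rfl
    obtain ⟨c, hc1, hc2⟩ := hc.syl (Q.comap e.toMonoidHom) (hQ.comap_of_injective _ e.injective) (by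
      intro q hq
      apply e.injective
      rw [map_mul, map_mul]
      exact hQx _ hq)
    refine ⟨e c, by rw [← map_mul, hc1, map_mul], fun s hs => ?_⟩
    refine ⟨c * e.symm s * c⁻¹, hc2 _ ?_, ?_⟩
    · rw [hmem, e.apply_symm_apply]
      exact hs
    · show e (c * e.symm s * c⁻¹) = e c * s * (e c)⁻¹
      rw [map_mul, map_mul, map_inv, e.apply_symm_apply]
  · obtain ⟨y, hy⟩ := hc.seven
    refine ⟨e y, ?_, ?_, ?_⟩
    · intro d
      constructor
      · rintro ⟨a, ha, hae⟩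
        have h1 : a = y * e.symm d * y⁻¹ := by
          apply e.injective
          rw [map_mul, map_mul, map_inv, e.apply_symm_apply]
          exact hae
        refine ⟨e.symm d, (hy.norm _).1 (by rw [← h1]; exact ha), e.apply_symm_apply d⟩
      · rintro ⟨a, ha, rfl⟩
        refine ⟨y * a * y⁻¹, (hy.norm a).2 ha, ?_⟩
        show e (y * a * y⁻¹) = e y * e a * (e y)⁻¹
        rw [map_mul, map_mul, map_inv]
    · obtain ⟨m, hm⟩ := hy.seven
      exact ⟨m, by rw [MulEquiv.orderOf_eq, hm]⟩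
    · rintro _ ⟨a, ha, rfl⟩ ha1 _ ⟨b, hb, rfl⟩ hb1
      obtain ⟨k, hk⟩ := hy.trans a ha (fun h1 => ha1 (by rw [h1, map_one])) b hb (fun h1 => hb1 (by rw [h1, map_one]))
      refine ⟨k, ?_⟩
      show (e y) ^ k * e a * ((e y) ^ k)⁻¹ = e b
      rw [← hk, map_mul, map_mul, map_inv, map_pow]
  · intro R hR N hN hNR hNn
    obtain ⟨R', hR'⟩ : ∃ R', R' = R.comap e.toMonoidHom := ⟨_, rfl⟩
    have hR'D : R' ≤ D := by
      intro r hr
      rw [hR'] at hr
      obtain ⟨d, hd, hde⟩ := hR hr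
      rw [← e.injective hde]
      exact hd
    have hcen : ∀ c : S, c ∈ centralizer (R' : Set S) ↔ e c ∈ centralizer (R : Set S') := by
      intro c
      rw [mem_centralizer_iff, mem_centralizer_iff]
      constructor
      · intro h1 r hr
        have h2 := h1 (e.symm r) (by rw [hR']; show e (e.symm r) ∈ R; rwa [e.apply_symm_apply])
        have h3 := congrArg e h2
        rwa [map_mul, map_mul, e.apply_symm_apply] at h3
      · intro h1 r hr
        rw [hR'] at hr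
        apply e.injective
        rw [map_mul, map_mul]
        exact h1 _ hr
    have h1 := hc.rad R' hR'D (N.comap e.toMonoidHom) (hN.comap_of_injective _ e.injective)
      (fun n hn => (hcen n).2 (hNR hn)) (by
        intro c hcR n hn
        show e (c * n * c⁻¹) ∈ N
        rw [map_mul, map_mul, map_inv]
        exact hNn _ ((hcen c).1 hcR) _ hn)
    intro n hn
    refine ⟨e.symm n, h1 ?_, e.apply_symm_apply n⟩
    show e (e.symm n) ∈ N
    rwa [e.apply_symm_apply]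

end gen

section fix

/-- **Fixed points.** `Q` a finite 2-group in which commutation with `t` behaves as in an extraspecial group. -/
theorem fix_card {Γ : Type*} [Group Γ] {Q : Subgroup Γ} [Finite Q] {z t : Γ} (hz : z * z = 1)
    (hcz : ∀ x ∈ Q, x * z = z * x) (hsq : ∀ x ∈ Q, x * x = 1 ∨ x * x = z)
    (htz : t * z = z * t) (htt : t * t = 1) (htQ : ∀ x ∈ Q, t * x * t⁻¹ ∈ Q) {n : ℕ}
    (hcard : Nat.card Q = n) :
    n ≤ 2 * (Nat.card ↥(Q ⊓ centralizer ({t} : Set Γ)) * Nat.card ↥(Q ⊓ centralizer ({t} : Set Γ))) := by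
  classical
  obtain ⟨C, hC⟩ : ∃ C, C = Q ⊓ centralizer ({t} : Set Γ) := ⟨_, rfl⟩
  rw [← hC]
  have hmem : ∀ x, x ∈ C ↔ x ∈ Q ∧ t * x * t⁻¹ = x := by
    intro x
    rw [hC, mem_inf, mem_centralizer_singleton_iff, mul_inv_eq_iff_eq_mul]
    exact ⟨fun h => ⟨h.1, h.2.symm⟩, fun h => ⟨h.1, h.2.symm⟩⟩
  have hti : t⁻¹ = t := inv_eq_of_mul_eq_one_left htt
  have ht2 : ∀ x, t * (t * x * t⁻¹) * t⁻¹ = x := by
    intro x
    calc t * (t * x * t⁻¹) * t⁻¹ = (t * t) * x * (t * t)⁻¹ := by group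
      _ = x := by rw [htt]; group
  have hCfin : Finite C := Finite.of_injective (Subgroup.inclusion (show C ≤ Q by rw [hC]; exact inf_le_left))
    (Subgroup.inclusion_injective _)
  have htz' : t * z * t⁻¹ = z := by rw [htz, mul_assoc, mul_inv_cancel, mul_one]
  -- the set `I`
  let I : Set Γ := {w | w ∈ Q ∧ (t * w * t⁻¹ = w ∨ t * w * t⁻¹ = w * z)}
  have hIfin : I.Finite := Set.Finite.subset (Set.toFinite (Q : Set Γ)) fun w hw => hw.1
  have hCset : (C : Set Γ).Finite := Set.toFinite _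
  -- `|I| ≤ 2 |C|`
  have hI : I.ncard ≤ 2 * Nat.card C := by
    by_cases hex : ∃ w₀ ∈ Q, t * w₀ * t⁻¹ = w₀ * z
    · obtain ⟨w₀, hw₀, hw₀t⟩ := hex
      have hsub : I ⊆ (C : Set Γ) ∪ (fun c => w₀ * c) '' (C : Set Γ) := by
        rintro w ⟨hwQ, hw | hw⟩
        · left
          exact (hmem w).2 ⟨hwQ, hw⟩
        · right
          refine ⟨w₀⁻¹ * w, (hmem _).2 ⟨Q.mul_mem (Q.inv_mem hw₀) hwQ, ?_⟩, by group⟩
          have e1 : t * (w₀⁻¹ * w) * t⁻¹ = (t * w₀ * t⁻¹)⁻¹ * (t * w * t⁻¹) := by group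
          rw [e1, hw₀t, hw, mul_inv_rev]
          have e2 : w * z = z * w := hcz w hwQ
          have e3 : w₀⁻¹ * z = z * w₀⁻¹ := hcz _ (Q.inv_mem hw₀)
          rw [e2]
          calc z⁻¹ * w₀⁻¹ * (z * w) = z⁻¹ * (w₀⁻¹ * z) * w := by group
            _ = z⁻¹ * (z * w₀⁻¹) * w := by rw [e3]
            _ = w₀⁻¹ * w := by group
      calc I.ncard ≤ ((C : Set Γ) ∪ (fun c => w₀ * c) '' (C : Set Γ)).ncard :=
            Set.ncard_le_ncard hsub (Set.toFinite _)
        _ ≤ (C : Set Γ).ncard + ((fun c => w₀ * c) '' (C : Set Γ)).ncard := Set.ncard_union_le _ _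
        _ ≤ (C : Set Γ).ncard + (C : Set Γ).ncard := by
            exact Nat.add_le_add_left (Set.ncard_image_le hCset) _
        _ = 2 * Nat.card C := by rw [two_mul]; rfl
    · push Not at hex
      have hsub : I ⊆ (C : Set Γ) := by
        rintro w ⟨hwQ, hw | hw⟩
        · exact (hmem w).2 ⟨hwQ, hw⟩
        · exact absurd hw (hex w hwQ)
      calc I.ncard ≤ (C : Set Γ).ncard := Set.ncard_le_ncard hsub (Set.toFinite _)
        _ = Nat.card C := rfl
        _ ≤ 2 * Nat.card C := by omega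
  -- the map
  let f : Q → I := fun x => ⟨(x : Γ) * (t * (x : Γ) * t⁻¹)⁻¹, by
    have h1 : (x : Γ) * (t * (x : Γ) * t⁻¹)⁻¹ ∈ Q := Q.mul_mem x.2 (Q.inv_mem (htQ _ x.2))
    refine ⟨h1, ?_⟩
    have h2 : t * ((x : Γ) * (t * (x : Γ) * t⁻¹)⁻¹) * t⁻¹ = ((x : Γ) * (t * (x : Γ) * t⁻¹)⁻¹)⁻¹ := by
      calc t * ((x : Γ) * (t * (x : Γ) * t⁻¹)⁻¹) * t⁻¹ =
            (t * (x : Γ) * t⁻¹) * (t * (t * (x : Γ) * t⁻¹) * t⁻¹)⁻¹ := by group
        _ = (t * (x : Γ) * t⁻¹) * (x : Γ)⁻¹ := by rw [ht2]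
        _ = _ := by group
    rw [h2]
    rcases hsq _ h1 with h3 | h3
    · left
      exact inv_eq_of_mul_eq_one_left h3
    · right
      rw [inv_eq_iff_mul_eq_one, ← mul_assoc, h3, hz]⟩
  have hfib : ∀ a b : Q, f a = f b → (b : Γ)⁻¹ * a ∈ C := by
    intro a b hab
    have h1 : (a : Γ) * (t * (a : Γ) * t⁻¹)⁻¹ = (b : Γ) * (t * (b : Γ) * t⁻¹)⁻¹ := congrArg Subtype.val hab
    refine (hmem _).2 ⟨Q.mul_mem (Q.inv_mem b.2) a.2, ?_⟩
    have h2 : (b : Γ)⁻¹ * a = (t * (b : Γ) * t⁻¹)⁻¹ * (t * (a : Γ) * t⁻¹) := by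
      calc (b : Γ)⁻¹ * a = (b : Γ)⁻¹ * ((a : Γ) * (t * (a : Γ) * t⁻¹)⁻¹) * (t * (a : Γ) * t⁻¹) := by group
        _ = (b : Γ)⁻¹ * ((b : Γ) * (t * (b : Γ) * t⁻¹)⁻¹) * (t * (a : Γ) * t⁻¹) := by rw [h1]
        _ = _ := by group
    obtain ⟨X, hX⟩ : ∃ X, X = t * (b : Γ) * t⁻¹ := ⟨_, rfl⟩
    obtain ⟨Y, hY⟩ : ∃ Y, Y = t * (a : Γ) * t⁻¹ := ⟨_, rfl⟩
    have hX2 : t * X * t⁻¹ = b := by rw [hX, ht2]
    have hY2 : t * Y * t⁻¹ = a := by rw [hY, ht2]
    rw [← hX, ← hY] at h2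
    calc t * ((b : Γ)⁻¹ * a) * t⁻¹ = t * (X⁻¹ * Y) * t⁻¹ := by rw [h2]
      _ = (t * X * t⁻¹)⁻¹ * (t * Y * t⁻¹) := by group
      _ = (b : Γ)⁻¹ * a := by rw [hX2, hY2]
  have hIf : Finite I := hIfin.to_subtype
  -- a section
  have hle : Nat.card Q ≤ I.ncard * Nat.card C := by
    have : Fintype Q := Fintype.ofFinite Q
    have : Fintype I := Fintype.ofFinite I
    let s : I → Q := fun i => if h : ∃ a, f a = i then h.choose else 1
    have hs : ∀ a, f (s (f a)) = f a := by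
      intro a
      have h : ∃ b, f b = f a := ⟨a, rfl⟩
      show f (if h : ∃ b, f b = f a then h.choose else 1) = f a
      rw [dif_pos h]
      exact h.choose_spec
    let F : Q → I × C := fun a => (f a, ⟨((s (f a) : Q) : Γ)⁻¹ * a, hfib a (s (f a)) (hs a).symm⟩)
    have hF : Function.Injective F := by
      intro a b hab
      have h1 : f a = f b := congrArg Prod.fst hab
      have h2 : ((s (f a) : Q) : Γ)⁻¹ * a = ((s (f b) : Q) : Γ)⁻¹ * b :=
        congrArg (fun p : I × C => (p.2 : Γ)) hab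
      rw [h1] at h2
      exact Subtype.ext (mul_left_cancel h2)
    have h1 := Nat.card_le_card_of_injective F hF
    rwa [Nat.card_prod] at h1
  calc n = Nat.card Q := hcard.symm
    _ ≤ I.ncard * Nat.card C := hle
    _ ≤ 2 * Nat.card C * Nat.card C := Nat.mul_le_mul_right _ hI
    _ = 2 * (Nat.card C * Nat.card C) := by ring

end fix

section lift

variable {X B Γ : Type*} [Group X] [Group B] [Group Γ] [Finite X] [Finite B] [Finite Γ]
  {q : B →* X} {τ : B}

/-- `N` a normal 2-subgroup of `H₀`, `H₀` normal in `C(u)`. -/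
theorem bad_of_subnormal {P : X → Prop} {u : X} (H₀ : Subgroup X) (hH : H₀ ≤ centralizer {u})
    (hHn : ∀ c ∈ centralizer ({u} : Set X), ∀ h ∈ H₀, c * h * c⁻¹ ∈ H₀) {N : Subgroup X} (hN2 : IsPGroup 2 N)
    (hNH : N ≤ H₀) (hNn : ∀ h ∈ H₀, ∀ n ∈ N, h * n * h⁻¹ ∈ N) (hN : 8 < Nat.card N ∨ ∃ n ∈ N, P n) :
    Bad P u := by
  have : Fact (Nat.Prime 2) := ⟨Nat.prime_two⟩
  have hNnormal : (N.subgroupOf H₀).Normal := by
    refine ⟨fun n hn g => ?_⟩
    rw [mem_subgroupOf] at hn ⊢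
    exact hNn g g.2 _ hn
  have hle : N.subgroupOf H₀ ≤ pCore 2 H₀ :=
    Cfsg.Agent.Lib.Cores.le_pCore hNnormal hN2.comap_subtype
  have hNle : N ≤ (pCore 2 H₀).map H₀.subtype := by
    intro n hn
    exact ⟨⟨n, hNH hn⟩, hle (mem_subgroupOf.2 hn), rfl⟩
  refine ⟨(pCore 2 H₀).map H₀.subtype, ?_, ?_, ?_, ?_⟩
  · exact (Cfsg.Agent.Lib.Cores.pCore_isPGroup 2).map _
  · exact (map_subtype_le _).trans hH
  · rintro c hc _ ⟨⟨n, hn0⟩, hn, rfl⟩
    let φ : H₀ ≃* H₀ :=
      { toFun := fun h => ⟨c * h * c⁻¹, hHn c hc h h.2⟩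
        invFun := fun h => ⟨c⁻¹ * h * c, by
          have := hHn c⁻¹ (inv_mem hc) h h.2
          rwa [inv_inv] at this⟩
        left_inv := fun h => Subtype.ext (by show c⁻¹ * (c * (h : X) * c⁻¹) * c = h; group)
        right_inv := fun h => Subtype.ext (by show c * (c⁻¹ * (h : X) * c) * c⁻¹ = h; group)
        map_mul' := fun a b => Subtype.ext (by
          show c * ((a : X) * b) * c⁻¹ = c * a * c⁻¹ * (c * b * c⁻¹); group) }
    have hchar : (pCore 2 H₀).Characteristic := Cfsg.Agent.Lib.Cores.pCore_characteristic 2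
    refine ⟨φ ⟨n, hn0⟩, ?_, rfl⟩
    have h1 := (characteristic_iff_le_comap.1 hchar) φ hn
    exact h1
  · rcases hN with h | ⟨n, hn, hPn⟩
    · left
      have : Finite ((pCore 2 H₀).map H₀.subtype : Subgroup X) := inferInstance
      exact h.trans_le (card_le_of_le hNle)
    · right
      exact ⟨n, hNle hn, hPn⟩

open Cfsg.Agent.R01.Lifts

/-- **The lift.** -/
theorem bad_of_lift (hq : Ext q τ) {θ : B →* Γ} (hθ : Function.Injective θ)
    (hr : ∀ x : Γ, x * θ τ = θ τ * x → ∃ b, θ b = x)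
    {v w : B} (hvw : w = v ∨ w = v * τ) {Q : Subgroup Γ} (hQ : IsPGroup 2 Q)
    (hn : ∀ x, x * θ w = θ w * x → ∀ r ∈ Q, x * r * x⁻¹ ∈ Q)
    (hQw : ∀ r ∈ Q, r * θ w = θ w * r)
    (hsq : ∀ r ∈ Q, r * r = 1 ∨ r * r = θ w) (hww : θ w * θ w = 1)
    (hcard : 2 ^ 11 ≤ Nat.card Q) (P : X → Prop) : Bad P (q v) := by
  have hqv : q w = q v := by
    rcases hvw with rfl | rfl
    · rfl
    · rw [map_mul, hq.mapz, mul_one]
  rw [← hqv]
  clear hvw hqv v
  let R₀ : Subgroup B := Q.comap θ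
  have hR₀ : ∀ r ∈ R₀, r * w = w * r := by
    intro r hr'
    apply hθ
    rw [map_mul, map_mul]
    exact hQw _ hr'
  have hnR : ∀ b : B, b * w = w * b → ∀ r ∈ R₀, b * r * b⁻¹ ∈ R₀ := by
    intro b hb r hr'
    show θ (b * r * b⁻¹) ∈ Q
    rw [map_mul, map_mul, map_inv]
    exact hn (θ b) (by rw [← map_mul, hb, map_mul]) _ hr'
  have hR2 : IsPGroup 2 R₀ := by
    intro r
    obtain ⟨n, hn'⟩ := hQ ⟨θ r, r.2⟩
    refine ⟨n, Subtype.ext ?_⟩
    have h2 : θ r ^ 2 ^ n = 1 := congrArg Subtype.val hn'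
    rw [← map_pow] at h2
    exact hθ (h2.trans (map_one θ).symm)
  -- the order
  have hττ : θ τ * θ τ = 1 := by rw [← map_mul, hq.zz, map_one]
  have hτw : θ τ * θ w = θ w * θ τ := by rw [← map_mul, ← map_mul, hq.comm]
  have h1 := fix_card (Q := Q) hww hQw hsq hτw hττ (hn _ hτw) rfl
  have hmap : Q ⊓ centralizer ({θ τ} : Set Γ) = R₀.map θ := by
    ext x
    constructor
    · rintro ⟨hx, hxc⟩
      obtain ⟨b, rfl⟩ := hr x (mem_centralizer_singleton_iff.1 hxc)
      exact ⟨b, hx, rfl⟩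
    · rintro ⟨b, hb, rfl⟩
      refine ⟨hb, mem_centralizer_singleton_iff.2 ?_⟩
      rw [← map_mul, ← map_mul, hq.comm]
  have hcR : Nat.card ↥(Q ⊓ centralizer ({θ τ} : Set Γ)) = Nat.card R₀ := by
    rw [hmap]
    exact (Nat.card_congr (R₀.equivMapOfInjective θ hθ).toEquiv).symm
  rw [hcR] at h1
  -- the image
  have hker : Nat.card R₀ ≤ 2 * Nat.card (R₀.map q) := by
    classical
    -- count by fibres
    have : Fintype R₀ := Fintype.ofFinite _
    have : Fintype (R₀.map q) := Fintype.ofFinite _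
    rw [Nat.card_eq_fintype_card, Nat.card_eq_fintype_card]
    let f : R₀ → R₀.map q := fun r => ⟨q r, ⟨r, r.2, rfl⟩⟩
    have h2 := Finset.card_le_mul_card_image_of_maps_to (s := (Finset.univ : Finset R₀))
      (t := (Finset.univ : Finset (R₀.map q))) (f := f) (fun a _ => Finset.mem_univ _) 2 (by
        intro y _
        by_cases hy : ∃ r, f r = y
        · obtain ⟨r, rfl⟩ := hy
          have hsub : (Finset.univ.filter fun x => f x = f r).image (fun x : R₀ => (x : B)) ⊆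
              {(r : B), (r : B) * τ} := by
            intro b hb
            obtain ⟨x, hx, rfl⟩ := Finset.mem_image.1 hb
            have h3 : q x = q r := congrArg Subtype.val (Finset.mem_filter.1 hx).2
            rcases hq.map_eq.1 h3 with h4 | h4
            · rw [h4]; exact Finset.mem_insert_self _ _
            · rw [h4]; exact Finset.mem_insert_of_mem (Finset.mem_singleton_self _)
          rw [← Finset.card_image_of_injective _ Subtype.val_injective]
          exact (Finset.card_le_card hsub).trans Finset.card_le_two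
        · have : (Finset.univ.filter fun x => f x = y) = ∅ := by
            apply Finset.filter_eq_empty_iff.2
            intro x _ hx
            exact hy ⟨x, hx⟩
          rw [this]
          simp)
    rwa [Finset.card_univ, Finset.card_univ] at h2
  have hbig : 8 < Nat.card (R₀.map q) := by
    by_contra hcon
    push Not at hcon
    have h3 : Nat.card R₀ ≤ 16 := by omega
    have h4 : Nat.card R₀ * Nat.card R₀ ≤ 16 * 16 := Nat.mul_le_mul h3 h3
    have h5 : Nat.card Q ≤ 512 := by omega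
    have h6 : (2 : ℕ) ^ 11 = 2048 := by norm_num
    omega
  refine bad_of_subnormal ((centralizer ({w} : Set B)).map q) ?_ ?_ (hR2.map q) ?_ ?_ (Or.inl hbig)
  · rintro _ ⟨b, hb, rfl⟩
    rw [SetLike.mem_coe, mem_centralizer_singleton_iff] at hb
    rw [mem_centralizer_singleton_iff, ← map_mul, hb, map_mul]
  · rintro c hc _ ⟨b, hb, rfl⟩
    obtain ⟨c, rfl⟩ := hq.surj c
    rw [mem_centralizer_singleton_iff] at hc
    refine ⟨c * b * c⁻¹, ?_, by rw [map_mul, map_mul, map_inv]⟩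
    rw [SetLike.mem_coe, mem_centralizer_singleton_iff] at hb ⊢
    -- `c⁻¹ w c` is `w` or `w τ`
    have h2 : c⁻¹ * w * c = w ∨ c⁻¹ * w * c = w * τ := by
      have h3 := hq.conj_of_commute (g := c⁻¹) (a := w) (by
        show q c⁻¹ * q w = q w * q c⁻¹
        rw [map_inv, inv_mul_eq_iff_eq_mul, ← mul_assoc, hc, mul_assoc, mul_inv_cancel, mul_one])
      rwa [inv_inv] at h3
    have h4 : b * (c⁻¹ * w * c) = (c⁻¹ * w * c) * b := by
      rcases h2 with h2 | h2
      · rw [h2, hb]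
      · rw [h2, ← mul_assoc, hb, mul_assoc, hq.comm b, mul_assoc]
    calc c * b * c⁻¹ * w = c * (b * (c⁻¹ * w * c)) * c⁻¹ := by group
      _ = c * ((c⁻¹ * w * c) * b) * c⁻¹ := by rw [h4]
      _ = w * (c * b * c⁻¹) := by group
  · rintro _ ⟨r, hr', rfl⟩
    exact ⟨r, by rw [SetLike.mem_coe, mem_centralizer_singleton_iff]; exact hR₀ r hr', rfl⟩
  · rintro _ ⟨b, hb, rfl⟩ _ ⟨r, hr', rfl⟩
    rw [SetLike.mem_coe, mem_centralizer_singleton_iff] at hb
    exact ⟨b * r * b⁻¹, hnR b hb r hr', by rw [map_mul, map_mul, map_inv]⟩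

open Cfsg.Agent.Co2Type.Quad

theorem bad_of_large (hq : Ext q τ) {θ : B →* Γ}
    (hθ : Function.Injective θ) (hr : ∀ x : Γ, x * θ τ = θ τ * x → ∃ b, θ b = x) {Q : Subgroup Γ} {z : Γ}
    (hL : Large Q z) (hcard : 2 ^ 11 ≤ Nat.card Q) {v w : B} (hvw : w = v ∨ w = v * τ)
    (hw : IsConj z (θ w)) (P : X → Prop) : Bad P (q v) := by
  obtain ⟨g, hg⟩ := isConj_iff.1 hw
  have hz : g⁻¹ * θ w * g = z := by rw [← hg]; group
  have hcomm : ∀ x : Γ, x * θ w = θ w * x → (g⁻¹ * x * g) * z = z * (g⁻¹ * x * g) := by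
    intro x hx
    rw [← hz]
    calc g⁻¹ * x * g * (g⁻¹ * θ w * g) = g⁻¹ * (x * θ w) * g := by group
      _ = g⁻¹ * (θ w * x) * g := by rw [hx]
      _ = _ := by group
  have hmem : ∀ x : Γ, x ∈ Q.comap (MulAut.conj g⁻¹).toMonoidHom ↔ g⁻¹ * x * g ∈ Q := by
    intro x
    show g⁻¹ * x * g⁻¹⁻¹ ∈ Q ↔ _
    rw [inv_inv]
  refine bad_of_lift hq hθ hr hvw (Q := Q.comap (MulAut.conj g⁻¹).toMonoidHom) ?_ ?_ ?_ ?_ ?_ ?_ P
  · rintro ⟨x, hx⟩
    rw [hmem] at hx
    refine ⟨2, Subtype.ext ?_⟩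
    show x ^ 2 ^ 2 = 1
    have h1 : (g⁻¹ * x * g) ^ 4 = 1 := by
      rcases hL.sq _ hx with h2 | h2
      · rw [show (4 : ℕ) = 2 * 2 by norm_num, pow_mul, pow_two (g⁻¹ * x * g), h2, one_pow]
      · rw [show (4 : ℕ) = 2 * 2 by norm_num, pow_mul, pow_two (g⁻¹ * x * g), h2, pow_two, hL.z_sq]
    have h2 : (g⁻¹ * x * g) ^ 4 = g⁻¹ * x ^ 4 * g := by
      have := conj_pow (a := g⁻¹) (b := x) (i := 4)
      rwa [inv_inv] at this
    rw [h2] at h1
    have h3 : x ^ 4 = g * (g⁻¹ * x ^ 4 * g) * g⁻¹ := by group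
    rw [show (2 : ℕ) ^ 2 = 4 by norm_num, h3, h1]
    group
  · intro x hx r hr'
    rw [hmem] at hr' ⊢
    have h1 := hL.conj_mem _ (hcomm x hx) _ hr'
    have h2 : g⁻¹ * (x * r * x⁻¹) * g = g⁻¹ * x * g * (g⁻¹ * r * g) * (g⁻¹ * x * g)⁻¹ := by group
    rwa [h2]
  · intro r hr'
    rw [hmem] at hr'
    have h1 := hL.comm_z _ hr'
    rw [← hz] at h1
    calc r * θ w = g * (g⁻¹ * r * g * (g⁻¹ * θ w * g)) * g⁻¹ := by group
      _ = g * (g⁻¹ * θ w * g * (g⁻¹ * r * g)) * g⁻¹ := by rw [h1]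
      _ = θ w * r := by group
  · intro r hr'
    rw [hmem] at hr'
    have h2 : r * r = g * (g⁻¹ * r * g * (g⁻¹ * r * g)) * g⁻¹ := by group
    rcases hL.sq _ hr' with h1 | h1
    · left
      rw [h2, h1]; group
    · right
      rw [h2, h1, hg]
  · have h2 : θ w * θ w = g * (g⁻¹ * θ w * g * (g⁻¹ * θ w * g)) * g⁻¹ := by group
    rw [h2, hz, hL.z_sq]; group
  · refine hcard.trans_eq ?_
    refine Nat.card_congr ⟨fun x => ⟨g * x * g⁻¹, ?_⟩, fun x => ⟨g⁻¹ * x * g, ?_⟩, ?_, ?_⟩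
    · rw [hmem]
      have : g⁻¹ * (g * (x : Γ) * g⁻¹) * g = x := by group
      rw [this]
      exact x.2
    · exact (hmem x).1 x.2
    · intro x
      apply Subtype.ext
      show g⁻¹ * (g * (x : Γ) * g⁻¹) * g = x
      group
    · intro x
      apply Subtype.ext
      show g * (g⁻¹ * (x : Γ) * g) * g⁻¹ = x
      group

end lift

end Cfsg.Agent.H695.KKL
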