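import Mathlib
import Cfsg.Agent.H695.KKL.Bad
import Cfsg.Agent.MThirteen.TwoA
import Cfsg.Agent.CTwoTab.BInst
import Cfsg.Agent.BabyComp.Main

/-!
# S4546, the row of the Baby Monster (helper695)

`E_B : Spor.IsoB S → NoCfg S`.
-/

set_option autoImplicit false
set_option maxRecDepth 100000
set_option linter.unusedSectionVars false

open Subgroup

namespace Cfsg.Agent.H695.KKL.BRow

open Cfsg Cfsg.Agent.H613.KKL Cfsg.Agent.H695.KKL
open Cfsg.Agent.CTwoTab Cfsg.Agent.BabyComp Cfsg.Agent.BabyComp.Main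
open Cfsg.Agent.R01.Lifts Cfsg.Agent.MonsterN Cfsg.Agent.MonsterN.Lit
open Cfsg.Agent.Bimonster

universe u v

section two

variable {X : Type*} [Group X] [Finite X]

theorem bad_pair {T : Set X} (HT : Pair.Trans T) {u d : X} (hu : u * u = 1) (hu1 : u ≠ 1) (hd : d ∈ T)
    (hc : u * d = d * u) (hud : u * d ∈ T) : Bad (fun s => s ∈ T) u := by
  obtain ⟨N, hN, hN2, hdN⟩ := Pair.exists_normal HT hu hu1 hd hc hud
  refine ⟨N.map (centralizer ({u} : Set X)).subtype, hN2.map _, map_subtype_le _, ?_, Or.inr ⟨d, ⟨_, hdN, rfl⟩, hd⟩⟩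
  rintro c hc _ ⟨n, hn, rfl⟩
  exact ⟨⟨c, hc⟩ * n * ⟨c, hc⟩⁻¹, hN.conj_mem n hn _, rfl⟩

end two

section all

variable {B : Type*} {X : Type u} {E : Type v} [Group B] [Group X] [Group E] [Finite B] [Finite X] [Finite E]
  {q : B →* X} {τ : B} {R : Set E}
variable {y : ℕ → B} {h : Pre y} {π : KK y →* E} {f₁ f₂ f₃ f₄ : B}

/-- **All the involutions.** -/
theorem bad_all [IsSimpleGroup E] {Γ : Type*} [Group Γ] [Finite Γ] (hq : Ext q τ) (h10 : y 10 = τ) (D : KD h R π)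
    (Fc : FusionType.Facts τ f₁ f₂ f₃ f₄) {θ : B →* Γ} {z : Γ}
    (hθ : Function.Injective θ) (hr : ∀ x : Γ, x * θ τ = θ τ * x → ∃ b, θ b = x)
    (hcz : IsConj z (θ (τ * (f₁ * f₂)))) (hcd : IsConj z (θ (f₁ * f₂ * f₃)))
    {Q : Subgroup Γ} (hL : Cfsg.Agent.Co2Type.Quad.Large Q z) (hcard : 2 ^ 11 ≤ Nat.card Q)
    (hc5 : IsConj f₁ (y 5)) (big : KEq.Big B τ (y 5))
    {F : Type*} [Field F] [Fintype F] {hF : Fintype.card F = 2 ^ 2}
    (hR : Cfsg.Agent.BabyU.RootCfg.RootFacts hF R) (hX : Cfsg.Agent.BabyU.Key.Extra hF R)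
    (Rt : Cfsg.Agent.BabyU.Lab.Roots E R)
    {M₁ : Subgroup X} (Bs : Base (q (y 5)) M₁) (u : X) (huu : u * u = 1) (hu1 : u ≠ 1) :
    IsConj (q (y 5)) u ∨ Bad (fun s => IsConj (q (y 5)) s) u := by
  obtain ⟨σ, hσ⟩ := exists_sigma hq h10 D
  have H := data hq h10 D big hσ
  have hP : ∀ g s, IsConj (q (y 5)) s → IsConj (q (y 5)) (g * s * g⁻¹) :=
    fun g s hs => hs.trans (isConj_iff.2 ⟨g, rfl⟩)
  rcases Bs.classes u huu hu1 with ⟨g, hg⟩ | ⟨d, hd, hc, hud⟩
  · -- case I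
    obtain ⟨k, hk, hqk⟩ := M_le hq h10 big Bs _ hg
    have hgu : u = g * q k * g⁻¹ := by rw [hqk]; group
    rw [hgu]
    have hkk : k * k = 1 := by
      refine lift_sq hR hX Rt hq h10 D hk ?_
      rw [hqk]
      calc g⁻¹ * u * g * (g⁻¹ * u * g) = g⁻¹ * (u * u) * g := by group
        _ = 1 := by rw [huu]; group
    have hqk1 : q k ≠ 1 := by
      intro e
      apply hu1
      rw [hgu, e]; group
    have hk1 : k ≠ 1 := fun e => hqk1 (by rw [e, map_one])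
    have hkτ : k ≠ τ := fun e => hqk1 (by rw [e, hq.mapz])
    rcases Fc.classes k hkk hk1 hkτ with h1 | h1 | h1 | h1
    · left
      exact (q.map_isConj (hc5.symm.trans h1)).trans (isConj_iff.2 ⟨g, rfl⟩)
    · right
      refine Bad.of_conj hP ?_ g
      refine bad_of_large hq hθ hr hL hcard (v := k) (w := k * τ) (Or.inr rfl) ?_ _
      refine hcz.trans (θ.map_isConj ?_)
      rw [hq.comm]
      exact FusionType.conj_mul_t Fc.cen h1
    · right
      refine Bad.of_conj hP ?_ g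
      exact bad_of_large hq hθ hr hL hcard (v := k) (w := k) (Or.inl rfl) (hcz.trans (θ.map_isConj h1)) _
    · right
      refine Bad.of_conj hP ?_ g
      exact bad_of_large hq hθ hr hL hcard (v := k) (w := k) (Or.inl rfl) (hcd.trans (θ.map_isConj h1)) _
  · -- case II
    right
    exact bad_pair (Bs.trans H.t_sq H.t_ne) huu hu1 hd hc hud

end all

open Cfsg Cfsg.Lie Cfsg.Agent.Bimonster Cfsg.Agent.BabyU Cfsg.Agent.TwoESix.Cover
open Cfsg.Agent.MonsterX Cfsg.Agent.MonsterX.Space Cfsg.Agent.MonsterX.Conc Cfsg.Agent.MonsterX.Model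
open Cfsg.Agent.MonsterX.InstData Cfsg.Agent.MonsterX.MainPack Cfsg.Agent.MonsterU
open Cfsg.Agent.MonsterP Cfsg.Agent.MonsterP.NodeData Cfsg.Agent.MonsterP.NodesConj Cfsg.Agent.CTwoTab.BInst
open Cfsg.Agent.MonsterX.KSide Cfsg.Agent.MonsterX.KLift Cfsg.Agent.MonsterX.KModel
open Cfsg.Agent.MonsterX.MainBasic Cfsg.Agent.MonsterU.Assembly Cfsg.Agent.MonsterN Cfsg.Agent.MonsterN.Lit

theorem noCfg0 : NoCfg Spor.BabyMonster := by
  refine elim ?_
  intro K _ _ hK hF _ _ _ _ q y h π f₁ f₂ f₃ f₄ M₁ hq h10 DK Fc hz hcz hcd hL hc5 big hq5 hcard5 Bs hr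
  have hcardQ : 2 ^ 11 ≤ Nat.card (InstData.M.Q.subgroupOf InstData.M.G) := by
    have h1 : Nat.card (InstData.M.Q.subgroupOf InstData.M.G) = 2 ^ 25 := by
      rw [← all.hG.Q_card]
      exact Nat.card_congr (Subgroup.subgroupOfEquivOfLe (all.hG.Q_le.trans C_le)).toEquiv
    rw [h1]
    norm_num
  refine noCfg_of_bad (fun s => IsConj (q (y 5)) s) ?_ ?_ ?_ ?_
  · intro h1
    have h2 : IsConj (PresentedGroup.of Spor.BabyMonster.Gen.t1 : Spor.BabyMonster) 1 := hq5.symm.trans h1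
    refine MThirteen.PureB.not_conj (t := 1) h2.symm (a := 1) (b := 1) (IsConj.refl _) (IsConj.refl _) rfl ?_
    rw [mul_one]
  · exact fun g s hs => hs.trans (isConj_iff.2 ⟨g, rfl⟩)
  · intro a b ha hb hab _ hc
    exact MThirteen.PureB.not_conj hq5 ha hb hab hc
  · intro u huu hu1
    exact bad_all (E := twistedE6 K 2) (hF := hF) hq h10 DK Fc Subtype.val_injective hr hcz hcd hL hcardQ hc5 big
      (Cfsg.Agent.TwoESix.LeviG.rootFacts hK hF) (Cfsg.Agent.BabyU.KeyInst.extra hF)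
      (Cfsg.Agent.TwoESix.RootsInst.roots K hF) Bs u huu hu1

/-- **The Baby Monster.** -/
theorem E_B {S : Type u} [Group S] [Finite S] (h : Spor.IsoB S) : NoCfg S := by
  obtain ⟨e⟩ := h
  exact noCfg_congr e noCfg0

end Cfsg.Agent.H695.KKL.BRow

namespace Cfsg.Agent.H695.KKL

universe u

/-- **The Baby Monster.** -/
theorem E_B {S : Type u} [Group S] [Finite S] (h : Cfsg.Spor.IsoB S) : Cfsg.Agent.H613.KKL.NoCfg S :=
  BRow.E_B h

end Cfsg.Agent.H695.KKL
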